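import Mathlib
import Cfsg.Agent.Spor.PC.Golay

/-! Polycyclic certificate for a Sylow 2-subgroup of `M11`. -/

set_option autoImplicit false

namespace Cfsg.Agent.Spor.PC

open Cfsg.Agent.Spor.Golay

noncomputable def m11R : ℕ → ℕ → ℕ :=
  tabS (.node (.node (.leaf 0xefcdab8967452301) (.leaf 0x98abcdfe32107654)) (.node (.leaf 0xcdfe98ab54670132) (.leaf 0x67452301fedcba98))) 4 15

noncomputable def m11C (j k : ℕ) : ℕ :=
  tabS (.node (.node (.leaf 0x0) (.leaf 0x31)) (.node (.leaf 0x11) (.leaf 0x1631))) 4 15 k j

def m11L : LT :=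
  (.node (.leaf [2]) (.leaf [12]))

def m11St : List Step :=
  [⟨4, 4, 1, 0, [], [], [], []⟩,
   ⟨9, 9, 4, 0, [], [], [], []⟩]

def m11CF : List (ℕ × ℕ × List ℕ) :=
  [(1, 6, [4]), (6, 4, [3]), (2, 11, [5])]

def m11D : List (ℕ × ℕ × ℕ) :=
  [(1, 1, 6), (1, 6, 4), (0, 4, 6), (1, 2, 11), (0, 11, 2)]

theorem m11_tab : chkTab m11R m11C 4 = true := by decide +kernel

theorem m11_phi : chkPhi m11R 4 2 m11L = true := by decide +kernel

theorem m11_steps : chkSteps m11R 4 m11St 2 = true := by decide +kernel

theorem m11_cen : chkCen m11R 4 1 = true := by decide +kernel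

theorem m11_der : chkDer m11R 4 1 m11CF m11D = true := by decide +kernel

/-- Codes of the polycyclic generators and of some conjugating elements. -/
def m11T : BT :=
  (.node (.node (.node (.leaf 970499966350631336865513127433832480) (.leaf 885507479881545519647698004112097536)) (.leaf 735500604421669808992593446508235808)) (.node (.node (.leaf 719923664328491199848526586197411872) (.leaf 610933098178650810155900481226967136)) (.leaf 608405391266436187982588441666881568)))

theorem m11_in : allLt 6 (fun x => isM11 (m11T.get x)) = true := by decide +kernel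

theorem m11_rel : chkRel (tabS m11T 5 31) m11C (List.range 24) 4 = true := by decide +kernel

theorem m11_conj : chkConj (tabS m11T 5 31) (List.range 24) 4 6 m11CF = true := by
  decide +kernel

theorem m11_cert : ∃ g : ℕ → Spor.M11, Tabs ptOf 24 (tabS m11T 5 31) g 6 ∧ Cert g 4 m11R := by
  obtain ⟨g, hg⟩ := exists_tabs (H := Spor.M11) fun x hx => inH_M11 ((allLt_iff _ _).1 m11_in x hx)
  exact ⟨g, hg, cert_of_chk hg ptOf_injOn (isBase_range _) range_lt (by norm_num) (by norm_num)
    m11_rel m11_tab m11_phi m11_steps rfl m11_cen m11_der m11_conj⟩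

end Cfsg.Agent.Spor.PC
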